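import Groth.Agent.GrpSchLib.ThickIso
import Mathlib.AlgebraicGeometry.Sites.Fpqc
import Mathlib.CategoryTheory.Monoidal.Cartesian.Over
import Mathlib.CategoryTheory.Monoidal.Cartesian.Grp

/-!
# A composition law which is a group law modulo a nilpotent ideal
-/

set_option backward.isDefEq.respectTransparency false
set_option backward.isDefEq.respectTransparency.types false
set_option linter.unusedSectionVars false

universe u v

open CategoryTheory Limits AlgebraicGeometry MonoidalCategory CartesianMonoidalCategory MonObj GrpObj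
open scoped CategoryTheory.Obj

noncomputable section

namespace Groth.Agent.SGAThickGrp20

section Semigroup

variable {C : Type u} [Category.{v} C] [CartesianMonoidalCategory C] {X : C} (P : X ⊗ X ⟶ X)

/-- The composition law on points. -/
def op {T : C} (x y : T ⟶ X) : T ⟶ X := lift x y ≫ P

theorem comp_op {T T' : C} (z : T' ⟶ T) (x y : T ⟶ X) : z ≫ op P x y = op P (z ≫ x) (z ≫ y) := by
  rw [op, op, ← Category.assoc, comp_lift]

variable {P}

theorem op_assoc (hassoc : (P ▷ X) ≫ P = (α_ X X X).hom ≫ (X ◁ P) ≫ P) {T : C} (x y z : T ⟶ X) :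
    op P (op P x y) z = op P x (op P y z) := by
  have e := congrArg (lift (lift x y) z ≫ ·) hassoc
  simp only [lift_whiskerRight_assoc, lift_lift_associator_hom_assoc, lift_whiskerLeft_assoc] at e
  exact e

theorem op_left_bijective [IsIso (lift (fst X X) P)] {T : C} (x : T ⟶ X) :
    Function.Bijective fun y : T ⟶ X => op P x y := by
  refine ⟨fun y y' h => ?_, fun z => ⟨lift x z ≫ inv (lift (fst X X) P) ≫ snd X X, ?_⟩⟩
  · have : lift x y ≫ lift (fst X X) P = lift x y' ≫ lift (fst X X) P := by
      rw [comp_lift, comp_lift, lift_fst, lift_fst]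
      exact congrArg (lift x) h
    simpa using congrArg (· ≫ snd X X) ((cancel_mono _).mp this)
  · have e : lift x (lift x z ≫ inv (lift (fst X X) P) ≫ snd X X) = lift x z ≫ inv (lift (fst X X) P) := by
      apply CartesianMonoidalCategory.hom_ext
      · have hfst : inv (lift (fst X X) P) ≫ fst X X = fst X X := by
          rw [IsIso.inv_comp_eq, lift_fst]
        rw [lift_fst, Category.assoc, hfst, lift_fst]
      · rw [lift_snd, Category.assoc]
    show lift x _ ≫ P = z
    rw [e, Category.assoc, show inv (lift (fst X X) P) ≫ P = snd X X by rw [IsIso.inv_comp_eq, lift_snd], lift_snd]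

theorem op_right_injective [IsIso (lift P (snd X X))] {T : C} (y : T ⟶ X) :
    Function.Injective fun x : T ⟶ X => op P x y := fun x x' h => by
  have : lift x y ≫ lift P (snd X X) = lift x' y ≫ lift P (snd X X) := by
    rw [comp_lift, comp_lift, lift_snd, lift_snd]
    exact congrArg (lift · y) h
  simpa using congrArg (· ≫ fst X X) ((cancel_mono _).mp this)

variable (P) in
/-- The neutral element as a function of a point. -/
def neu [IsIso (lift (fst X X) P)] : X ⟶ X := lift (𝟙 X) (𝟙 X) ≫ inv (lift (fst X X) P) ≫ snd X X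

theorem op_neu [IsIso (lift (fst X X) P)] {T : C} (x : T ⟶ X) : op P x (x ≫ neu P) = x := by
  have h : op P (𝟙 X) (neu P) = 𝟙 X := by
    have e : lift (𝟙 X) (neu P) = lift (𝟙 X) (𝟙 X) ≫ inv (lift (fst X X) P) := by
      apply CartesianMonoidalCategory.hom_ext
      · rw [lift_fst, Category.assoc, show inv (lift (fst X X) P) ≫ fst X X = fst X X by
          rw [IsIso.inv_comp_eq, lift_fst], lift_fst]
      · rw [lift_snd, Category.assoc]
        rfl
    rw [op, e, Category.assoc, show inv (lift (fst X X) P) ≫ P = snd X X by rw [IsIso.inv_comp_eq, lift_snd],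
      lift_snd]
  have := congrArg (x ≫ ·) h
  simpa [comp_op] using this

variable (hassoc : (P ▷ X) ≫ P = (α_ X X X).hom ≫ (X ◁ P) ≫ P) [IsIso (lift (fst X X) P)] [IsIso (lift P (snd X X))]

include hassoc in
theorem neu_op {T : C} (x y : T ⟶ X) : op P (x ≫ neu P) y = y :=
  (op_left_bijective (P := P) x).1 (by simp only [← op_assoc hassoc, op_neu])

include hassoc in
theorem op_neu' {T : C} (x y : T ⟶ X) : op P y (x ≫ neu P) = y :=
  op_right_injective (P := P) x (by simp only [op_assoc hassoc, neu_op hassoc])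

include hassoc in
theorem neu_eq {T : C} (x y : T ⟶ X) : x ≫ neu P = y ≫ neu P :=
  (op_neu' hassoc y (x ≫ neu P)).symm.trans (neu_op hassoc x _)

include hassoc in
/-- An associative law with invertible translations and a descended neutral element is a group law. -/
theorem exists_grpObj (e : 𝟙_ C ⟶ X) (he : toUnit X ≫ e = neu P) : ∃ _ : GrpObj X, μ[X] = P := by
  have het : ∀ {T : C} (x : T ⟶ X), toUnit T ≫ e = x ≫ neu P := fun x => by
    rw [← he, ← Category.assoc, comp_toUnit]
  let i : X ⟶ X := lift (𝟙 X) (toUnit X ≫ e) ≫ inv (lift (fst X X) P) ≫ snd X X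
  have hri : op P (𝟙 X) i = toUnit X ≫ e := by
    obtain ⟨z, hz⟩ := (op_left_bijective (P := P) (𝟙 X)).2 (toUnit X ≫ e)
    have : i = z := by
      show lift (𝟙 X) (toUnit X ≫ e) ≫ _ = z
      rw [← hz]
      show lift (𝟙 X) (lift (𝟙 X) z ≫ P) ≫ _ = z
      rw [show lift (𝟙 X) (lift (𝟙 X) z ≫ P) = lift (𝟙 X) z ≫ lift (fst X X) P by rw [comp_lift, lift_fst],
        Category.assoc, IsIso.hom_inv_id_assoc, lift_snd]
    rw [this]
    exact hz
  let m : MonObj X :=
    { one := e
      mul := P
      one_mul := by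
        have h : e ▷ X = lift (fst _ X ≫ e) (snd _ X) := by apply CartesianMonoidalCategory.hom_ext <;> simp
        rw [h, toUnit_unique (fst (𝟙_ C) X) (toUnit _), het (snd _ X)]
        exact (neu_op hassoc _ _).trans (leftUnitor_hom X).symm
      mul_one := by
        have h : X ◁ e = lift (fst X _) (snd X _ ≫ e) := by apply CartesianMonoidalCategory.hom_ext <;> simp
        rw [h, toUnit_unique (snd X (𝟙_ C)) (toUnit _), het (fst X _)]
        exact (op_neu' hassoc _ _).trans (rightUnitor_hom X).symm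
      mul_assoc := hassoc }
  refine ⟨{ m with inv := i, left_inv := ?_, right_inv := hri }, rfl⟩
  show op P i (𝟙 X) = toUnit X ≫ e
  refine (op_left_bijective (P := P) (𝟙 X)).1 ?_
  simp only [← op_assoc hassoc, hri, het (𝟙 X)]
  rw [neu_op hassoc, op_neu' hassoc]

end Semigroup

variable {R : Type u} [CommRing R] (I : Ideal R) (hI : IsNilpotent I)

include hI in
theorem isIso_of_isIso_map {Y Z : Over (Spec (CommRingCat.of R))} [Flat Y.hom] (σ : Y ⟶ Z)
    (h : IsIso ((Over.pullback (Spec.map (CommRingCat.ofHom (Ideal.Quotient.mk I)))).map σ)) : IsIso σ := by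
  let π := Spec.map (CommRingCat.ofHom (Ideal.Quotient.mk I))
  let F := Over.pullback π
  have : IsIso (F.map σ).left := ((Over.forget _).mapIso (@asIso _ _ _ _ (F.map σ) h)).isIso_hom
  have hX' : IsPullback (pullback.fst Y.hom π ≫ σ.left) (pullback.snd Y.hom π) Z.hom π := by
    refine (IsPullback.of_hasPullback Z.hom π).of_iso (asIso (F.map σ).left).symm (Iso.refl _) (Iso.refl _) (Iso.refl _)
      ?_ ?_ (by simp) (by simp)
    · simp only [Iso.symm_hom, asIso_inv, Iso.refl_hom, Category.comp_id]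
      rw [IsIso.eq_inv_comp]
      exact (pullback.lift_fst _ _ _)
    · simp only [Iso.symm_hom, asIso_inv, Iso.refl_hom, Category.comp_id]
      rw [IsIso.eq_inv_comp]
      exact Over.w (F.map σ)
  have := GrpSchLib.ThickIso.isIso_of_thickening I hI Y.hom Z.hom (pullback.fst Y.hom π) (pullback.fst Y.hom π ≫ σ.left)
    (pullback.snd Y.hom π) (IsPullback.of_hasPullback Y.hom π) hX' σ.left (Over.w σ) rfl
  have : IsIso ((Over.forget _).map σ) := this
  exact isIso_of_reflects_iso σ (Over.forget _)

include hI in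
theorem exists_grpObj_of_thickening (X : Over (Spec (CommRingCat.of R))) [Flat X.hom]
    (hX : QuasiCompact X.hom ∨ LocallyOfFinitePresentation X.hom) (P : X ⊗ X ⟶ X)
    (hassoc : (P ▷ X) ≫ P = (α_ X X X).hom ≫ (X ◁ P) ≫ P)
    [GrpObj ((Over.pullback (Spec.map (CommRingCat.ofHom (Ideal.Quotient.mk I)))).obj X)]
    (hμ : μ[(Over.pullback (Spec.map (CommRingCat.ofHom (Ideal.Quotient.mk I)))).obj X] =
        Functor.LaxMonoidal.μ (Over.pullback (Spec.map (CommRingCat.ofHom (Ideal.Quotient.mk I)))) X X ≫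
          (Over.pullback (Spec.map (CommRingCat.ofHom (Ideal.Quotient.mk I)))).map P) :
    ∃ _ : GrpObj X, μ[X] = P := by
  let π := Spec.map (CommRingCat.ofHom (Ideal.Quotient.mk I))
  let F := Over.pullback π
  have : Flat (X ⊗ X).hom := inferInstanceAs (Flat (pullback.fst X.hom X.hom ≫ X.hom))
  let Φ := Functor.Monoidal.μIso F X X
  have e1 : Φ.hom ≫ F.map (lift (fst X X) P) ≫ Φ.inv = lift (fst (F.obj X) (F.obj X)) μ[F.obj X] := by
    rw [← cancel_mono Φ.hom, Category.assoc, Category.assoc, Iso.inv_hom_id, Category.comp_id, hμ,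
      ← Functor.Monoidal.μ_fst F X X, ← comp_lift, Category.assoc]
    congr 1
    exact (Functor.Monoidal.lift_μ F _ _).symm
  have e2 : Φ.hom ≫ F.map (lift P (snd X X)) ≫ Φ.inv = lift μ[F.obj X] (snd (F.obj X) (F.obj X)) := by
    rw [← cancel_mono Φ.hom, Category.assoc, Category.assoc, Iso.inv_hom_id, Category.comp_id, hμ,
      ← Functor.Monoidal.μ_snd F X X, ← comp_lift, Category.assoc]
    congr 1
    exact (Functor.Monoidal.lift_μ F _ _).symm
  have i1 : IsIso (lift (fst (F.obj X) (F.obj X)) μ[F.obj X]) :=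
    ⟨lift (fst _ _) ((fst _ _)⁻¹ * snd _ _), by
      apply CartesianMonoidalCategory.hom_ext <;>
        simp [MonObj.comp_mul, GrpObj.comp_inv, MonObj.mul_eq_mul], by
      apply CartesianMonoidalCategory.hom_ext <;>
        simp [MonObj.comp_mul, GrpObj.comp_inv, MonObj.mul_eq_mul]⟩
  have i2 : IsIso (lift μ[F.obj X] (snd (F.obj X) (F.obj X))) :=
    ⟨lift (fst _ _ * (snd _ _)⁻¹) (snd _ _), by
      apply CartesianMonoidalCategory.hom_ext <;>
        simp [MonObj.comp_mul, GrpObj.comp_inv, MonObj.mul_eq_mul] <;>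
        exact mul_inv_cancel_right (G := F.obj X ⊗ F.obj X ⟶ F.obj X) _ _, by
      apply CartesianMonoidalCategory.hom_ext <;>
        simp [MonObj.comp_mul, GrpObj.comp_inv, MonObj.mul_eq_mul] <;>
        exact inv_mul_cancel_right (G := F.obj X ⊗ F.obj X ⟶ F.obj X) _ _⟩
  have : IsIso (F.map (lift (fst X X) P)) := by
    rw [show F.map (lift (fst X X) P) = Φ.inv ≫ lift (fst (F.obj X) (F.obj X)) μ[F.obj X] ≫ Φ.hom by
      rw [← e1]; simp]
    infer_instance
  have : IsIso (F.map (lift P (snd X X))) := by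
    rw [show F.map (lift P (snd X X)) = Φ.inv ≫ lift μ[F.obj X] (snd (F.obj X) (F.obj X)) ≫ Φ.hom by
      rw [← e2]; simp]
    infer_instance
  have : IsIso (lift (fst X X) P) := isIso_of_isIso_map I hI _ ‹_›
  have : IsIso (lift P (snd X X)) := isIso_of_isIso_map I hI _ ‹_›
  have hsurj : Surjective X.hom := ⟨fun s => by
    obtain ⟨s₀, rfl⟩ := (GrpSchLib.ThickIso.surjective_SpecMap_quotient I hI).surj s
    refine ⟨((η[F.obj X]).left ≫ pullback.fst X.hom π) s₀, ?_⟩
    rw [← Scheme.Hom.comp_apply, Category.assoc, pullback.condition, ← Category.assoc,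
      show (η[F.obj X]).left ≫ pullback.snd X.hom π = 𝟙 _ from Over.w η[F.obj X]]
    rfl⟩
  have : EffectiveEpi X.hom := by
    rcases hX with h | h <;> infer_instance
  have hdesc : ∀ {W : Scheme.{u}} (g₁ g₂ : W ⟶ X.left), g₁ ≫ X.hom = g₂ ≫ X.hom →
      g₁ ≫ (neu P).left = g₂ ≫ (neu P).left := fun {W} g₁ g₂ h => by
    let T : Over (Spec (CommRingCat.of R)) := Over.mk (g₁ ≫ X.hom)
    exact congrArg CommaMorphism.left
      (neu_eq hassoc (Over.homMk g₁ rfl : T ⟶ X) (Over.homMk g₂ h.symm : T ⟶ X))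
  let e₀ := EffectiveEpi.desc X.hom (neu P).left fun g₁ g₂ h => hdesc g₁ g₂ h
  have he₀ : X.hom ≫ e₀ = (neu P).left := EffectiveEpi.fac _ _ _
  let e : 𝟙_ (Over (Spec (CommRingCat.of R))) ⟶ X := Over.homMk e₀ (by
    show e₀ ≫ X.hom = 𝟙 _
    rw [← cancel_epi X.hom, reassoc_of% he₀, Over.w (neu P), Category.comp_id])
  exact exists_grpObj hassoc e (Over.OverMorphism.ext he₀)

end Groth.Agent.SGAThickGrp20
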